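import Groth.Agent.Lib.CurveHiggs

/-!
# Maximal slope subsheaves of pairs
-/

set_option linter.style.haveILetI false
set_option linter.unusedSectionVars false
set_option backward.isDefEq.respectTransparency false
set_option backward.isDefEq.respectTransparency.types false

universe u

open CategoryTheory CategoryTheory.Limits AlgebraicGeometry

namespace Groth.Agent.HiggsSlope

open Groth.Agent.CurveBundle Groth.Agent.CurveSlope Groth.Agent.CurveStable

variable {X : Scheme.{u}} (k : Type u) [Field k] [X.Over (Spec (CommRingCat.of k))] [IsIntegral X]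
  [IsProper (X ↘ Spec (CommRingCat.of k))] [Smooth (X ↘ Spec (CommRingCat.of k))]

/-- A subsheaf of maximal slope, and then of maximal rank, among those with a property. -/
theorem exists_max (hdim : topologicalKrullDim X ≤ 1) {E : X.Modules} (hE : FlatMod.IsFinLocFree E)
    (P : ∀ G : X.Modules, (G ⟶ E) → Prop)
    (h : ∃ (F : X.Modules) (i : F ⟶ E), Mono i ∧ FlatMod.IsFinLocFree F ∧ 0 < rk F ∧ P F i) :
    ∃ (E₁ : X.Modules) (i₁ : E₁ ⟶ E), Mono i₁ ∧ 0 < rk E₁ ∧ FlatMod.IsFinLocFree E₁ ∧ P E₁ i₁ ∧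
      ∀ (G : X.Modules) (j : G ⟶ E), Mono j → FlatMod.IsFinLocFree G → 0 < rk G → P G j →
        dg k G * (rk E₁ : ℤ) ≤ dg k E₁ * (rk G : ℤ) ∧
        (dg k G * (rk E₁ : ℤ) = dg k E₁ * (rk G : ℤ) → rk G ≤ rk E₁) := by
  classical
  let J : Finset ℕ := (Finset.Icc 1 (rk E)).filter fun a =>
    ∃ (F : X.Modules) (i : F ⟶ E), Mono i ∧ FlatMod.IsFinLocFree F ∧ P F i ∧ rk F = a
  have hmem : ∀ (F : X.Modules) (i : F ⟶ E), Mono i → FlatMod.IsFinLocFree F → 0 < rk F → P F i → rk F ∈ J :=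
    fun F i hi hF h0 hP => by
      haveI := hi
      exact Finset.mem_filter.2 ⟨Finset.mem_Icc.2 ⟨h0, rk_le_of_mono k i (coh_of_free k hE)⟩,
        F, i, hi, hF, hP, rfl⟩
  have hmax : ∀ a, a ∈ J → ∃ d : ℤ, (∃ (F : X.Modules) (i : F ⟶ E), Mono i ∧ FlatMod.IsFinLocFree F ∧
      P F i ∧ rk F = a ∧ dg k F = d) ∧
      ∀ (F : X.Modules) (i : F ⟶ E), Mono i → FlatMod.IsFinLocFree F → P F i → rk F = a → dg k F ≤ d := by
    intro a ha
    obtain ⟨F₀, i₀, hi₀, hF₀, hP₀, hr₀⟩ := (Finset.mem_filter.1 ha).2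
    obtain ⟨d, hd, hd'⟩ := Int.exists_greatest_of_bdd
      (P := fun d => ∃ (F : X.Modules) (i : F ⟶ E), Mono i ∧ FlatMod.IsFinLocFree F ∧
        P F i ∧ rk F = a ∧ dg k F = d)
      ⟨(Module.finrank k (Coh.HH X E 0) : ℤ) - (a : ℤ) * Curv2.euler k X (Coh.structureModule X),
        fun d ⟨F, i, hi, hF, _, hr, hd⟩ => by
          haveI := hi
          rw [← hd, ← hr]
          exact dg_le_h0 k hdim i (coh_of_free k hF) (coh_of_free k hE)⟩
      ⟨_, F₀, i₀, hi₀, hF₀, hP₀, hr₀, rfl⟩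
    exact ⟨d, hd, fun F i hi hF hP hr => hd' _ ⟨F, i, hi, hF, hP, hr, rfl⟩⟩
  choose! d hd hd' using hmax
  obtain ⟨F₀, i₀, hi₀, hF₀, h₀, hP₀⟩ := h
  obtain ⟨a₁, ha₁, hbest⟩ := J.exists_max_image (fun a => toLex ((d a : ℚ) / (a : ℚ), a))
    ⟨_, hmem F₀ i₀ hi₀ hF₀ h₀ hP₀⟩
  obtain ⟨E₁, i₁, hi₁, hE₁, hP₁, hrk₁, hdg₁⟩ := hd a₁ ha₁
  have hpos : 0 < a₁ := (Finset.mem_Icc.1 (Finset.mem_filter.1 ha₁).1).1
  refine ⟨E₁, i₁, hi₁, hrk₁ ▸ hpos, hE₁, hP₁, fun G j hj hG hG0 hPG => ?_⟩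
  have haJ := hmem G j hj hG hG0 hPG
  have hle := mul_le_mul_of_nonneg_right (hd' _ haJ G j hj hG hPG rfl) (Int.natCast_nonneg a₁)
  rw [hrk₁, hdg₁]
  have haQ : (0 : ℚ) < rk G := by exact_mod_cast hG0
  have h1Q : (0 : ℚ) < a₁ := by exact_mod_cast hpos
  rcases Prod.Lex.toLex_le_toLex.1 (hbest _ haJ) with h | ⟨h, h'⟩
  · rw [div_lt_div_iff₀ haQ h1Q] at h
    have h2 : d (rk G) * (a₁ : ℤ) < d a₁ * (rk G : ℤ) := by exact_mod_cast h
    exact ⟨by linarith, fun he => absurd he (by intro he; linarith)⟩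
  · rw [div_eq_div_iff haQ.ne' h1Q.ne'] at h
    have h2 : d (rk G) * (a₁ : ℤ) = d a₁ * (rk G : ℤ) := by exact_mod_cast h
    exact ⟨by linarith, fun _ => h'⟩

/-- A coherent sheaf of rank and degree zero is zero. -/
theorem isZero_of_rk_dg (hdim : topologicalKrullDim X ≤ 1) {M : X.Modules} (hM : Coh.IsCoh M)
    (h0 : rk M = 0) (hd : dg k M = 0) : IsZero M := by
  haveI := isLocallyNoetherian' k (X := X)
  obtain ⟨-, h4⟩ := Euler.euler_nonneg_of_good k hM (Euler.good_of_dim_le_zero k hM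
    (CurveDeg.topologicalKrullDim_le_zero_of_ne_univ hdim (QCoh.isClosed_support_of_isFT hM.1 hM.2)
      (support_ne_univ_of_rk hM h0)))
  refine h4 ?_
  unfold dg at hd
  rw [h0] at hd
  simpa using hd

/-- A map out of a maximal subsheaf into the quotient vanishes, when its kernel and the preimage of
its image are admissible. -/
theorem eq_zero (hdim : topologicalKrullDim X ≤ 1) {E F R : X.Modules}
    (hE : FlatMod.IsFinLocFree E) (hF : FlatMod.IsFinLocFree F) (hF0 : 0 < rk F)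
    (i : F ⟶ E) [Mono i] (P : ∀ G : X.Modules, (G ⟶ E) → Prop)
    (hmax : ∀ (G : X.Modules) (j : G ⟶ E), Mono j → FlatMod.IsFinLocFree G → 0 < rk G → P G j →
      dg k G * (rk F : ℤ) ≤ dg k F * (rk G : ℤ) ∧
      (dg k G * (rk F : ℤ) = dg k F * (rk G : ℤ) → rk G ≤ rk F))
    (θ : F ⟶ R) {I : X.Modules} (π : F ⟶ I) (jI : I ⟶ R) (hfac : π ≫ jI = θ)
    (hI : Coh.IsCoh I) (hK : Coh.IsCoh (kernel θ)) (hrk : rk F = rk (kernel θ) + rk I)
    (hdg : dg k F = dg k (kernel θ) + dg k I) (hPK : P _ (kernel.ι θ ≫ i))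
    {M : X.Modules} (m : M ⟶ E) [Mono m] (hM : Coh.IsCoh M) (hPM : P M m)
    (hMrk : rk M = rk F + rk I) (hMdg : dg k M = dg k F + dg k I) : θ = 0 := by
  haveI := isLocallyNoetherian' k (X := X)
  have hMf := isFinLocFree_of_mono k hdim hM m hE
  have hKf := isFinLocFree_of_mono k hdim hK (kernel.ι θ) hF
  obtain ⟨hM1, hM2⟩ := hmax M m inferInstance hMf (by omega) hPM
  have hK1 : dg k (kernel θ) * (rk F : ℤ) ≤ dg k F * (rk (kernel θ) : ℤ) := by
    rcases Nat.eq_zero_or_pos (rk (kernel θ)) with h0 | h0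
    · rw [h0, dg_eq_zero_of_isZero k (isZero_of_rk_zero hKf h0)]
      simp
    · exact (hmax _ (kernel.ι θ ≫ i) inferInstance hKf h0 hPK).1
  rw [hMrk, hMdg] at hM1 hM2
  push_cast at hM1 hM2
  have hrk' : (rk F : ℤ) = (rk (kernel θ) : ℤ) + rk I := by exact_mod_cast hrk
  have hge : dg k F * (rk I : ℤ) ≤ dg k I * (rk F : ℤ) := by
    linear_combination hK1 + (rk F : ℤ) * hdg - (dg k F) * hrk'
  have hle : dg k I * (rk F : ℤ) ≤ dg k F * (rk I : ℤ) := by linear_combination hM1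
  have hb := hM2 (by linear_combination (le_antisymm hle hge))
  have hb0 : rk I = 0 := by omega
  have hd0 : dg k I = 0 := by
    have he := le_antisymm hle hge
    rw [hb0] at he
    push_cast at he
    rw [mul_zero, mul_eq_zero] at he
    exact he.resolve_right (by omega)
  rw [← hfac, (isZero_of_rk_dg k hdim hI hb0 hd0).eq_of_tgt π 0, zero_comp]

/-- The preimage of a subsheaf of a quotient, as a kernel. -/
theorem preimage_spec (hdim : topologicalKrullDim X ≤ 1) {E F : X.Modules}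
    (hE : FlatMod.IsFinLocFree E) (hF : Coh.IsCoh F) (i : F ⟶ E) [Mono i]
    {G : X.Modules} (g : G ⟶ cokernel i) [Mono g] (hG : Coh.IsCoh G) :
    Coh.IsCoh (kernel (cokernel.π i ≫ cokernel.π g)) ∧
      rk (kernel (cokernel.π i ≫ cokernel.π g)) = rk F + rk G ∧
      dg k (kernel (cokernel.π i ≫ cokernel.π g)) = dg k F + dg k G := by
  haveI := isLocallyNoetherian' k (X := X)
  have hEc := coh_of_free k hE
  have hQ : Coh.IsCoh (cokernel i) := QCoh.isCoh_cokernel hF.1 hEc i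
  haveI : Epi (cokernel.π i ≫ cokernel.π g) := epi_comp _ _
  have hC : Coh.IsCoh (cokernel g) := QCoh.isCoh_cokernel hG.1 hQ g
  have hK := QCoh.isCoh_kernel hEc hC (cokernel.π i ≫ cokernel.π g)
  have h1 := rk_add_coh k _ _ _ (shortExact_kernel_of_epi (cokernel.π i ≫ cokernel.π g)) hEc
  have h2 := rk_add_coh k _ _ _ (shortExact_cokernel_of_mono i) hEc
  have h3 := dg_add k _ _ _ (shortExact_kernel_of_epi (cokernel.π i ≫ cokernel.π g)) hK hEc hC
  have h4 := dg_add k _ _ _ (shortExact_cokernel_of_mono i) hF hEc hQ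
  have h5 := rk_add_coh k _ _ _ (shortExact_cokernel_of_mono g) hQ
  have h6 := dg_add k _ _ _ (shortExact_cokernel_of_mono g) hG hQ hC
  exact ⟨hK, by omega, by omega⟩

include k in
theorem rk_tensor_line {L : X.Modules} (hL : FlatMod.IsFinLocFreeOfRank 1 L) (G : X.Modules) :
    rk ((DCoh.tensorBi.obj L).obj G) = rk G := by
  obtain ⟨b⟩ := CurveTensor.exists_basis_stalk hL (genericPoint X)
  have e := (KFlatLib.stalkTensorIso (genericPoint X) L G).symm.toLinearEquiv ≪≫ₗ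
    TensorProduct.congr (b.equivFun ≪≫ₗ LinearEquiv.funUnique (Fin 1) _ _) (LinearEquiv.refl _ _) ≪≫ₗ
    TensorProduct.lid (X.presheaf.stalk (genericPoint X)) _
  exact e.finrank_eq

end Groth.Agent.HiggsSlope
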