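import Groth.Agent.HiggsSlope.Basic

/-!
# Quotients of semistable pairs by invariant subsheaves of the same slope
-/

set_option linter.style.haveILetI false
set_option linter.unusedSectionVars false
set_option backward.isDefEq.respectTransparency false
set_option backward.isDefEq.respectTransparency.types false

universe u

open CategoryTheory CategoryTheory.Limits AlgebraicGeometry

namespace Groth.Agent.HiggsSlope

open Groth.Agent.CurveBundle Groth.Agent.CurveSlope Groth.Agent.CurveStable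

variable {X : Scheme.{u}} (k : Type u) [Field k] [X.Over (Spec (CommRingCat.of k))] [IsIntegral X]
  [IsProper (X ↘ Spec (CommRingCat.of k))] [Smooth (X ↘ Spec (CommRingCat.of k))]

include k in
/-- The torsion free quotient of a quotient of a bundle. -/
theorem exists_torsionFree_quot (hdim : topologicalKrullDim X ≤ 1) {E Q : X.Modules}
    (hE : FlatMod.IsFinLocFree E) (hQ : Coh.IsCoh Q) (p : E ⟶ Q) [Epi p] :
    ∃ (Q' : X.Modules) (q : Q ⟶ Q'), Epi q ∧ FlatMod.IsFinLocFree Q' ∧ rk Q' = rk Q := by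
  haveI := isLocallyNoetherian' k (X := X)
  have hEc := coh_of_free k hE
  obtain ⟨d, ⟨Q', q, hq, hQ', hr, rfl⟩, hd⟩ := Int.exists_least_of_bdd
    (P := fun d => ∃ (Q' : X.Modules) (q : Q ⟶ Q'), Epi q ∧ Coh.IsCoh Q' ∧ rk Q' = rk Q ∧ dg k Q' = d)
    ⟨dg k E - ((Module.finrank k (Coh.HH X E 0) : ℤ) -
        ((rk E - rk Q : ℕ) : ℤ) * Curv2.euler k X (Coh.structureModule X)),
      fun d ⟨Q', q, hq, hQ', hr, hd⟩ => by
        haveI := hq
        haveI : Epi (p ≫ q) := epi_comp p q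
        have hK := QCoh.isCoh_kernel hEc hQ' (p ≫ q)
        have h1 := rk_add_coh k _ _ _ (shortExact_kernel_of_epi (p ≫ q)) hEc
        have h2 := dg_add k _ _ _ (shortExact_kernel_of_epi (p ≫ q)) hK hEc hQ'
        have h3 := dg_le_h0 k hdim (kernel.ι (p ≫ q)) hK hEc
        rw [show rk (kernel (p ≫ q)) = rk E - rk Q by omega] at h3
        omega⟩
    ⟨_, Q, 𝟙 Q, inferInstance, hQ, rfl, rfl⟩
  refine ⟨Q', q, hq, ?_, hr⟩
  by_contra hne
  obtain ⟨Q'', q', hq', hQ'', hr', hlt⟩ := exists_quot_dg_lt k hdim hQ' hne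
  haveI := hq
  haveI := hq'
  have := hd _ ⟨Q'', q ≫ q', epi_comp q q', hQ'', hr'.trans hr, rfl⟩
  omega

variable {L : X.Modules}

/-- The kernel of an equivariant epimorphism is invariant. -/
theorem kernel_invariant (hL : FlatMod.IsFinLocFree L) {E Q : X.Modules}
    (φ : E ⟶ (DCoh.tensorBi.obj E).obj L) (φQ : Q ⟶ (DCoh.tensorBi.obj Q).obj L) (g : E ⟶ Q) [Epi g]
    (hg : g ≫ φQ = φ ≫ CurveHiggs.twist L g) :
    ∃ χ, χ ≫ CurveHiggs.twist L (kernel.ι g) = kernel.ι g ≫ φ :=
  (CurveHiggs.exists_invariant hL φ φQ g hg g (𝟙 _) (Category.comp_id g)).1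

/-- An equivariant map descends to the cokernel of an invariant subsheaf. -/
theorem exists_descend {F E : X.Modules} (φ : E ⟶ (DCoh.tensorBi.obj E).obj L) (i : F ⟶ E)
    (χ : F ⟶ (DCoh.tensorBi.obj F).obj L) (hχ : χ ≫ CurveHiggs.twist L i = i ≫ φ) :
    ∃ φQ, cokernel.π i ≫ φQ = φ ≫ CurveHiggs.twist L (cokernel.π i) :=
  ⟨cokernel.desc i (φ ≫ CurveHiggs.twist L (cokernel.π i)) (by
      rw [← Category.assoc, ← hχ, Category.assoc, ← CurveHiggs.twist_comp, cokernel.condition,
        CurveHiggs.twist_zero, comp_zero]), cokernel.π_desc _ _ _⟩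

/-- The quotient of a semistable pair by an invariant subsheaf of the same slope. -/
theorem quot_semistable (hdim : topologicalKrullDim X ≤ 1) (hL : PicF.IsInvertible L) {E F : X.Modules}
    (hE : FlatMod.IsFinLocFree E) (φ : E ⟶ (DCoh.tensorBi.obj E).obj L) (hr : 0 < rk E)
    (hss : ∀ (M : X.Modules) (m : M ⟶ E) (χ : M ⟶ (DCoh.tensorBi.obj M).obj L), Mono m →
      FlatMod.IsFinLocFree M → χ ≫ CurveHiggs.twist L m = m ≫ φ →
      dg k M * (rk E : ℤ) ≤ dg k E * (rk M : ℤ))
    (hFc : Coh.IsCoh F) (i : F ⟶ E) [Mono i] (χ : F ⟶ (DCoh.tensorBi.obj F).obj L)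
    (hχ : χ ≫ CurveHiggs.twist L i = i ≫ φ) (hslope : dg k F * (rk E : ℤ) = dg k E * (rk F : ℤ)) :
    FlatMod.IsFinLocFree (cokernel i) ∧ rk E = rk F + rk (cokernel i) ∧
      dg k (cokernel i) * (rk E : ℤ) = dg k E * (rk (cokernel i) : ℤ) ∧
      ∀ (φ' : cokernel i ⟶ (DCoh.tensorBi.obj (cokernel i)).obj L),
        cokernel.π i ≫ φ' = φ ≫ CurveHiggs.twist L (cokernel.π i) →
        ∀ (G : X.Modules) (j : G ⟶ cokernel i) (ψ : G ⟶ (DCoh.tensorBi.obj G).obj L), Mono j →
          FlatMod.IsFinLocFree G → ψ ≫ CurveHiggs.twist L j = j ≫ φ' →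
          dg k G * (rk (cokernel i) : ℤ) ≤ dg k (cokernel i) * (rk G : ℤ) := by
  haveI := isLocallyNoetherian' k (X := X)
  have hLf := isFinLocFree_of_rank (InvEnd.isFinLocFreeOfRank_one hL)
  have hEc := coh_of_free k hE
  have hQ : Coh.IsCoh (cokernel i) := QCoh.isCoh_cokernel hFc.1 hEc i
  have h1 := rk_add_coh k _ _ _ (shortExact_cokernel_of_mono i) hEc
  have h2 := dg_add k _ _ _ (shortExact_cokernel_of_mono i) hFc hEc hQ
  have h1' : (rk E : ℤ) = (rk F : ℤ) + (rk (cokernel i) : ℤ) := by exact_mod_cast h1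
  have hdQ : dg k (cokernel i) * (rk E : ℤ) = dg k E * (rk (cokernel i) : ℤ) := by
    linear_combination -(rk E : ℤ) * h2 - hslope + dg k E * h1'
  refine ⟨?_, h1, hdQ, ?_⟩
  · obtain ⟨φQ, hφQ⟩ := exists_descend φ i χ hχ
    obtain ⟨Q', q, hq, hQ', hrq⟩ := exists_torsionFree_quot k hdim hE hQ (cokernel.π i)
    haveI := hq
    have hQ'c := coh_of_free k hQ'
    have hT := QCoh.isCoh_kernel hQ hQ'c q
    have hTr := rk_add_coh k _ _ _ (shortExact_kernel_of_epi q) hQ
    have hv : (kernel.ι q ≫ φQ ≫ CurveHiggs.twist L q) = 0 := by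
      obtain ⟨I, π, jI, hjI, hfac, hKc, hIc, hπ, w, hS⟩ := exists_factor hT
        (CurveHiggs.isCoh_twist hLf hQ'c) (kernel.ι q ≫ φQ ≫ CurveHiggs.twist L q)
      haveI := hjI
      have hIf := isFinLocFree_of_mono k hdim hIc jI (CurveHiggs.isFinLocFree_twist hL hQ')
      have hr0 := rk_add_coh k _ _ w hS hT
      rw [← hfac, (isZero_of_rk_zero hIf (by omega)).eq_of_tgt π 0, zero_comp]
    have hS := shortExact_kernel_of_epi q
    let φQ' := hS.exact.desc (φQ ≫ CurveHiggs.twist L q) hv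
    have hφQ' : q ≫ φQ' = φQ ≫ CurveHiggs.twist L q := hS.exact.g_desc _ _
    haveI : Epi (cokernel.π i ≫ q) := epi_comp _ _
    obtain ⟨χM, hχM⟩ := kernel_invariant hLf φ φQ' (cokernel.π i ≫ q) (by
      rw [Category.assoc, hφQ', ← Category.assoc, hφQ, Category.assoc, ← CurveHiggs.twist_comp])
    have hK := QCoh.isCoh_kernel hEc hQ'c (cokernel.π i ≫ q)
    have h3 := rk_add_coh k _ _ _ (shortExact_kernel_of_epi (cokernel.π i ≫ q)) hEc
    have h4 := dg_add k _ _ _ (shortExact_kernel_of_epi (cokernel.π i ≫ q)) hK hEc hQ'c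
    have h5 := hss _ (kernel.ι (cokernel.π i ≫ q)) χM inferInstance
      (isFinLocFree_of_mono k hdim hK (kernel.ι (cokernel.π i ≫ q)) hE) hχM
    rw [show rk (kernel (cokernel.π i ≫ q)) = rk F by omega, ← hslope] at h5
    have h6 := le_of_mul_le_mul_right h5 (by exact_mod_cast hr)
    have h7 := dg_add k _ _ _ hS hT hQ hQ'c
    have hTd : dg k (kernel q) ≤ 0 := by omega
    have hT0 : IsZero (kernel q) := by
      obtain ⟨hnn, -⟩ := Euler.euler_nonneg_of_good k hT (Euler.good_of_dim_le_zero k hT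
        (CurveDeg.topologicalKrullDim_le_zero_of_ne_univ hdim (QCoh.isClosed_support_of_isFT hT.1 hT.2)
          (support_ne_univ_of_rk hT (by omega))))
      refine isZero_of_rk_dg k hdim hT (by omega) (le_antisymm hTd ?_)
      unfold dg
      rw [show rk (kernel q) = 0 by omega]
      simpa using hnn
    haveI : Mono q := Preadditive.mono_of_isZero_kernel q hT0
    haveI : IsIso q := isIso_of_mono_of_epi q
    exact isFinLocFree_of_mono k hdim hQ q hQ'
  · intro φ' hφ' G j ψ hj hG hψ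
    haveI := hj
    obtain ⟨φC, hφC⟩ := exists_descend φ' j ψ hψ
    haveI : Epi (cokernel.π i ≫ cokernel.π j) := epi_comp _ _
    obtain ⟨χM, hχM⟩ := kernel_invariant hLf φ φC (cokernel.π i ≫ cokernel.π j) (by
      rw [Category.assoc, hφC, ← Category.assoc, hφ', Category.assoc, ← CurveHiggs.twist_comp])
    obtain ⟨hM, hMr, hMd⟩ := preimage_spec k hdim hE hFc i j (coh_of_free k hG)
    have h5 := hss _ (kernel.ι (cokernel.π i ≫ cokernel.π j)) χM inferInstance
      (isFinLocFree_of_mono k hdim hM (kernel.ι (cokernel.π i ≫ cokernel.π j)) hE) hχM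
    rw [hMd, hMr] at h5
    push_cast at h5
    refine le_of_mul_le_mul_right ?_ (show (0 : ℤ) < rk E by exact_mod_cast hr)
    calc dg k G * (rk (cokernel i) : ℤ) * (rk E : ℤ) ≤ dg k E * (rk G : ℤ) * (rk (cokernel i) : ℤ) := by
          have : dg k G * (rk E : ℤ) ≤ dg k E * (rk G : ℤ) := by linarith
          have := mul_le_mul_of_nonneg_right this (Int.natCast_nonneg (rk (cokernel i)))
          linarith
      _ = dg k (cokernel i) * (rk G : ℤ) * (rk E : ℤ) := by linear_combination -(rk G : ℤ) * hdQ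

end Groth.Agent.HiggsSlope
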